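import Groth.Agent.AlgSp.FTPoints
import Mathlib.AlgebraicGeometry.Morphisms.Finite
import Mathlib.RingTheory.Artinian.Module
import Mathlib.RingTheory.Jacobson.Ring

/-!
# Finite type points of schemes
-/

set_option autoImplicit false
set_option linter.style.haveILetI false
set_option backward.isDefEq.respectTransparency.types false

universe u

open CategoryTheory CategoryTheory.Limits AlgebraicGeometry

namespace Groth.Agent.FtPtsLib

/-- The set of finite type points. -/
abbrev IsFtPt (S : Scheme.{u}) (s : S) : Prop := LocallyOfFiniteType (S.fromSpecResidueField s)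

theorem isFtPt_of_isClosed {S : Scheme.{u}} (U : S.Opens) {s : S} (hs : s ∈ U)
    (h : IsClosed ({⟨s, hs⟩} : Set U)) : IsFtPt S s := by
  let x : U.toScheme := ⟨s, hs⟩
  haveI : IsClosedImmersion (U.toScheme.fromSpecResidueField x) :=
    .of_isPreimmersion _ (by rw [Scheme.range_fromSpecResidueField]; exact h)
  have hc : LocallyOfFiniteType (U.toScheme.fromSpecResidueField x ≫ U.ι) := inferInstance
  rw [← Scheme.Hom.SpecMap_residueFieldMap_fromSpecResidueField,
    MorphismProperty.cancel_left_of_respectsIso (P := @LocallyOfFiniteType)] at hc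
  exact hc

/-- The image point of a finite type morphism from a field is closed in an affine open. -/
theorem exists_affine_isClosed {S : Scheme.{u}} {k : Type u} [Field k] (g : Spec (CommRingCat.of k) ⟶ S)
    [LocallyOfFiniteType g] (z : Spec (CommRingCat.of k)) :
    ∃ (U : S.Opens), IsAffineOpen U ∧ ∃ h : g z ∈ U, IsClosed ({⟨g z, h⟩} : Set U) := by
  obtain ⟨O, h, hO⟩ := AlgSp.FTPoints.exists_open_isClosed g z
  obtain ⟨_, ⟨W, hW, rfl⟩, hzW, hWO⟩ :=
    S.isBasis_affineOpens.exists_subset_of_mem_open (show g z ∈ (O : Set S) from h) O.2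
  refine ⟨W, hW, hzW, ?_⟩
  have hc : Continuous (Set.inclusion hWO) := continuous_inclusion hWO
  have he : ({⟨g z, hzW⟩} : Set W) = Set.inclusion hWO ⁻¹' {⟨g z, h⟩} :=
    Set.ext fun a => ⟨fun e => Subtype.ext (congrArg (fun x : W => (x : S)) e :),
      fun e => Subtype.ext (congrArg (fun x : O => (x : S)) e :)⟩
  rw [he]
  exact IsClosed.preimage hc hO

theorem isFtPt_of_field {S : Scheme.{u}} {k : Type u} [Field k] (g : Spec (CommRingCat.of k) ⟶ S)
    [LocallyOfFiniteType g] (z : Spec (CommRingCat.of k)) : IsFtPt S (g z) := by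
  obtain ⟨U, _, h, hU⟩ := exists_affine_isClosed g z
  exact isFtPt_of_isClosed U h hU

theorem isFtPt_iff {S : Scheme.{u}} (s : S) :
    IsFtPt S s ↔ ∃ U : S.Opens, IsAffineOpen U ∧ ∃ hs : s ∈ U, IsClosed ({⟨s, hs⟩} : Set U) := by
  refine ⟨fun h => ?_, fun ⟨U, _, hs, hU⟩ => isFtPt_of_isClosed U hs hU⟩
  haveI : LocallyOfFiniteType (S.fromSpecResidueField s) := h
  obtain ⟨U, hU, hsU, hc⟩ := exists_affine_isClosed (k := S.residueField s) (S.fromSpecResidueField s)
    (IsLocalRing.closedPoint _)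
  have e : S.fromSpecResidueField s (IsLocalRing.closedPoint (S.residueField s)) = s :=
    Scheme.fromSpecResidueField_apply _ _
  refine ⟨U, hU, e ▸ hsU, ?_⟩
  convert hc using 2
  exact Subtype.ext e.symm

theorem image_subset {T S : Scheme.{u}} (f : T ⟶ S) [LocallyOfFiniteType f] {t : T} (ht : IsFtPt T t) :
    IsFtPt S (f t) := by
  haveI : LocallyOfFiniteType (T.fromSpecResidueField t) := ht
  have := isFtPt_of_field (k := T.residueField t) (T.fromSpecResidueField t ≫ f) (IsLocalRing.closedPoint _)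
  rwa [Scheme.Hom.comp_apply, Scheme.fromSpecResidueField_apply] at this

theorem exists_mem_of_isLocallyClosed {S : Scheme.{u}} {Z : Set S} (hZ : IsLocallyClosed Z)
    (hne : Z.Nonempty) : ∃ z ∈ Z, IsFtPt S z := by
  obtain ⟨O, C, hO, hC, rfl⟩ := hZ
  obtain ⟨x, hxO, hxC⟩ := hne
  obtain ⟨_, ⟨W, hW, rfl⟩, hxW, hWO⟩ := S.isBasis_affineOpens.exists_subset_of_mem_open hxO hO
  haveI : CompactSpace ↥(W : Set S) := isCompact_iff_compactSpace.1 hW.isCompact
  obtain ⟨⟨z, hzW⟩, hzC, hz⟩ := (hC.preimage (continuous_subtype_val (p := (· ∈ (W : Set S))))).exists_closed_singleton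
    ⟨⟨x, hxW⟩, hxC⟩
  exact ⟨z, ⟨hWO hzW, hzC⟩, isFtPt_of_isClosed W hzW hz⟩

theorem subset_closure {S : Scheme.{u}} {Z : Set S} (hZ : IsClosed Z) :
    Z ⊆ closure (Z ∩ {s | IsFtPt S s}) := fun z hz => mem_closure_iff.2 fun O hO hzO => by
  obtain ⟨w, hw, hw'⟩ := exists_mem_of_isLocallyClosed (hO.isLocallyClosed.inter hZ.isLocallyClosed)
    ⟨z, hzO, hz⟩
  exact ⟨w, hw.1, hw.2, hw'⟩

theorem image_eq {T S : Scheme.{u}} (f : T ⟶ S) [LocallyOfFiniteType f] [Surjective f] :
    f '' {t | IsFtPt T t} = {s | IsFtPt S s} := by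
  refine Set.Subset.antisymm (fun _ ⟨t, ht, e⟩ => e ▸ image_subset f ht) fun s hs => ?_
  obtain ⟨U, _, hsU, hc⟩ := (isFtPt_iff s).1 hs
  have hloc : IsLocallyClosed ({s} : Set S) := by
    obtain ⟨C, hC, e⟩ := isClosed_induced_iff.1 hc
    refine ⟨U, C, U.2, hC, ?_⟩
    ext a
    constructor
    · intro ha
      cases Set.mem_singleton_iff.1 ha
      exact ⟨hsU, (e.symm.subset (Set.mem_singleton _) :)⟩
    · rintro ⟨haU, haC⟩
      have : (⟨a, haU⟩ : U) ∈ ({⟨s, hsU⟩} : Set U) := e.subset haC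
      exact Set.mem_singleton_iff.2 (congrArg Subtype.val (Set.mem_singleton_iff.1 this))
  obtain ⟨t₀, ht₀⟩ := f.surjective s
  obtain ⟨t, ht, ht'⟩ := exists_mem_of_isLocallyClosed (hloc.preimage f.continuous) ⟨t₀, ht₀⟩
  exact ⟨t, ht', ht⟩

theorem locallyOfFiniteType_of_fieldHom {S : Scheme.{u}} {k : Type u} [Field k] {s : S}
    (ψ : S.residueField s ⟶ CommRingCat.of k) :
    LocallyOfFiniteType (Spec.map ψ ≫ S.fromSpecResidueField s) ↔ IsFtPt S s ∧ ψ.hom.Finite := by
  constructor
  · intro h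
    have h1 := isFtPt_of_field (Spec.map ψ ≫ S.fromSpecResidueField s) (IsLocalRing.closedPoint k)
    rw [Scheme.Hom.comp_apply, Scheme.fromSpecResidueField_apply] at h1
    have h2 := locallyOfFiniteType_of_comp (Spec.map ψ) (S.fromSpecResidueField s)
    rw [HasRingHomProperty.Spec_iff (P := @LocallyOfFiniteType)] at h2
    exact ⟨h1, RingHom.finite_iff_finiteType_of_isJacobsonRing.2 h2⟩
  · rintro ⟨h1, h2⟩
    haveI : LocallyOfFiniteType (S.fromSpecResidueField s) := h1
    haveI : LocallyOfFiniteType (Spec.map ψ) :=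
      (HasRingHomProperty.Spec_iff (P := @LocallyOfFiniteType)).2 (RingHom.FiniteType.of_finite h2)
    infer_instance

theorem locallyOfFiniteType_field_iff {S : Scheme.{u}} {k : Type u} [Field k]
    (f : Spec (CommRingCat.of k) ⟶ S) (p : Spec (CommRingCat.of k)) :
    LocallyOfFiniteType f ↔ IsFtPt S (f p) ∧ (f.residueFieldMap p).hom.Finite := by
  let j := (Spec (CommRingCat.of k)).fromSpecResidueField p
  haveI : Subsingleton (Spec (CommRingCat.of k)) := inferInstanceAs (Subsingleton (PrimeSpectrum k))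
  haveI : IsClosedImmersion j := .of_isPreimmersion _ (Set.subsingleton_of_subsingleton.isClosed)
  haveI : Surjective j := ⟨fun q => ⟨IsLocalRing.closedPoint _, Subsingleton.elim _ _⟩⟩
  haveI : IsIso j := isIso_of_isClosedImmersion_of_surjective j
  rw [← MorphismProperty.cancel_left_of_respectsIso (P := @LocallyOfFiniteType) j f,
    ← Scheme.Hom.SpecMap_residueFieldMap_fromSpecResidueField]
  exact locallyOfFiniteType_of_fieldHom (k := (Spec (CommRingCat.of k)).residueField p) (f.residueFieldMap p)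

theorem finiteType_of_nilpotent {R A : Type u} [CommRing R] [CommRing A] [Algebra R A] (I : Ideal A)
    (hI : I.FG) (hn : IsNilpotent I) (h : Algebra.FiniteType R (A ⧸ I)) : Algebra.FiniteType R A := by
  classical
  obtain ⟨s, hs⟩ := h.out
  obtain ⟨t, ht⟩ := hI
  choose g hg using (Ideal.Quotient.mk_surjective : Function.Surjective (Ideal.Quotient.mk I))
  let B := Algebra.adjoin R (↑(s.image g ∪ t) : Set A)
  refine ⟨⟨s.image g ∪ t, top_le_iff.1 fun a _ => ?_⟩⟩
  -- every element is in `B + I ^ n`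
  have h0 : ∀ a : A, ∃ b ∈ B, a - b ∈ I := fun a => by
    have hle : Algebra.adjoin R (↑s : Set (A ⧸ I)) ≤ B.map (Ideal.Quotient.mkₐ R I) :=
      Algebra.adjoin_le fun x hx => ⟨g x, Algebra.subset_adjoin (Finset.mem_coe.2
        (Finset.mem_union_left _ (Finset.mem_image_of_mem g hx))), hg x⟩
    obtain ⟨b, hb, e⟩ := hle (hs.ge (Algebra.mem_top (x := Ideal.Quotient.mk I a)))
    exact ⟨b, hb, Ideal.Quotient.eq.1 e.symm⟩
  have h1 : ∀ (n : ℕ) (a : A), ∃ b ∈ B, a - b ∈ I ^ n := by
    intro n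
    induction n with
    | zero => exact fun a => ⟨0, B.zero_mem, by simp⟩
    | succ n ih =>
      intro a
      obtain ⟨b, hb, hab⟩ := h0 a
      have : ∀ x ∈ I, ∃ c ∈ B, x - c ∈ I ^ (n + 1) := fun x hx => by
        rw [← ht] at hx
        induction hx using Submodule.span_induction with
        | mem y hy => exact ⟨y, Algebra.subset_adjoin (Finset.mem_coe.2 (Finset.mem_union_right _ hy)), by simp⟩
        | zero => exact ⟨0, B.zero_mem, by simp⟩
        | add y z _ _ hy hz =>
          obtain ⟨c, hc, hyc⟩ := hy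
          obtain ⟨d, hd, hzd⟩ := hz
          exact ⟨c + d, B.add_mem hc hd, by rw [add_sub_add_comm]; exact add_mem hyc hzd⟩
        | smul r y hy' hy =>
          obtain ⟨c, hc, hyc⟩ := hy
          obtain ⟨r', hr', hrr⟩ := ih r
          refine ⟨r' * c, B.mul_mem hr' hc, ?_⟩
          have e : r • y - r' * c = (r - r') * y + r' * (y - c) := by simp only [smul_eq_mul]; ring
          rw [e]
          refine add_mem ?_ (Ideal.mul_mem_left _ _ hyc)
          rw [pow_succ]
          exact Ideal.mul_mem_mul hrr (ht ▸ hy')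
      obtain ⟨c, hc, h⟩ := this _ hab
      exact ⟨b + c, B.add_mem hb hc, by rw [← sub_sub]; exact h⟩
  obtain ⟨n, hn⟩ := hn
  obtain ⟨b, hb, hab⟩ := h1 n a
  rw [hn, Submodule.zero_eq_bot, Submodule.mem_bot, sub_eq_zero] at hab
  exact hab ▸ hb

theorem finiteType_artinian_iff {S : Scheme.{u}} {A : Type u} [CommRing A] [IsArtinianRing A]
    [IsLocalRing A] (f : Spec (CommRingCat.of A) ⟶ S) :
    LocallyOfFiniteType f ↔
      LocallyOfFiniteType (Spec.map (CommRingCat.ofHom (IsLocalRing.residue A)) ≫ f) := by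
  haveI : LocallyOfFiniteType (Spec.map (CommRingCat.ofHom (IsLocalRing.residue A))) :=
    (HasRingHomProperty.Spec_iff (P := @LocallyOfFiniteType)).2
      (RingHom.FiniteType.of_surjective _ IsLocalRing.residue_surjective)
  refine ⟨fun _ => inferInstance, fun h => ?_⟩
  obtain ⟨_, ⟨W, hW, rfl⟩, hW', -⟩ := S.isBasis_affineOpens.exists_subset_of_mem_open
    (Set.mem_univ (f (IsLocalRing.closedPoint A))) isOpen_univ
  have hr : Set.range f ⊆ Set.range hW.fromSpec := by
    rintro _ ⟨q, rfl⟩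
    rw [hW.range_fromSpec]
    exact ((IsLocalRing.specializes_closedPoint q).map f.continuous).mem_open W.2 hW'
  let f' := IsOpenImmersion.lift hW.fromSpec f hr
  obtain ⟨φ, hφ⟩ := Spec.map_surjective f'
  have e : f = Spec.map φ ≫ hW.fromSpec := by rw [hφ]; exact (IsOpenImmersion.lift_fac _ _ hr).symm
  subst e
  rw [← Category.assoc, ← Spec.map_comp] at h
  have h' := locallyOfFiniteType_of_comp (Spec.map (φ ≫ CommRingCat.ofHom (IsLocalRing.residue A))) hW.fromSpec
  rw [HasRingHomProperty.Spec_iff (P := @LocallyOfFiniteType)] at h'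
  letI := φ.hom.toAlgebra
  have hft : φ.hom.FiniteType := finiteType_of_nilpotent (IsLocalRing.maximalIdeal A)
    (IsNoetherian.noetherian _) (by
      rw [← IsLocalRing.jacobson_eq_maximalIdeal ⊥ bot_ne_top]
      exact IsArtinianRing.isNilpotent_jacobson_bot) h'
  haveI : LocallyOfFiniteType (Spec.map φ) := (HasRingHomProperty.Spec_iff (P := @LocallyOfFiniteType)).2 hft
  infer_instance

end Groth.Agent.FtPtsLib
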